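import Cfsg.Agent.Lib.Helper4.Orb.U43x.Mats
import Cfsg.Agent.Lib.Helper4.Orb.FrontU43
import Cfsg.Agent.Lib.Helper4.Orb.GrpMcL
import Cfsg.Agent.Lib.Helper4.TC.U43Iso

set_option autoImplicit false
set_option linter.unusedVariables false
set_option linter.unusedSectionVars false
set_option linter.style.haveILetI false

/-! The joint stabiliser of the three vectors `u, v, x` of the McLaughlin configuration is
isomorphic to `PSU₄(3)`. -/

namespace Cfsg.Agent.Helper4.CO.U43x

open Cfsg Cfsg.Agent.Helper4.CO Cfsg.Agent.Helper4.TC MulAction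

/-- the base vectors -/
def U0 : leechLattice := mkL U43.anc0 U43.anc0_in

/-- the base vectors -/
def V0 : leechLattice := mkL U43.anc1 U43.anc1_in

/-- the base vectors -/
def X0 : leechLattice := mkL U43.anc2 U43.anc2_in

theorem coS_fix (x : UG) (a : List ℤ) (ha : a ∈ U43.anchors) (hin : InLP a) :
    coS D Dinv hok x • mkL a hin = mkL a hin := by
  apply Subtype.ext
  rw [coS_smul D Dinv hok x a hin.1 (mkL a hin) rfl, hfix x a ha]
  rfl

theorem coS_a_ne_one : coS D Dinv hok .a ≠ 1 := by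
  obtain ⟨l, hl, hne⟩ := hmove
  intro h1
  apply hne
  have hin := basisL_in l hl
  have hl24 := basisL_length l hl
  have h2 := coS_smul D Dinv hok .a l hl24 (mkL l hin) rfl
  rw [h1, one_smul] at h2
  have h3 : toV (stepsAct (D .a) l) = toV l := h2.symm
  have hlen : (stepsAct (D .a) l).length = 24 := (stepsAct_eq (D .a) (hok .a).1 l hl24).2
  apply List.ext_getElem (by rw [hlen, hl24])
  intro n h4 h5
  have hn : n < 24 := by rw [hlen] at h4; exact h4
  have h6 := congrFun h3 (Cfsg.Agent.Lib.Helper4.pt ⟨n, hn⟩)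
  rw [toV_pt, toV_pt, List.getD_eq_getElem _ _ h4, List.getD_eq_getElem _ _ h5] at h6
  exact h6

/-- the order of the joint stabiliser -/
theorem card_stab (u v x : leechLattice) (hu : sqNorm (u : GolayPt → ℤ) = 48)
    (hv : v ∈ dotSet 32 u 0 0 (24, 0, 0)) (hx : x ∈ dotSet 32 u v 0 (24, 16, 0)) :
    Nat.card ↥(stabilizer Co0 u ⊓ stabilizer Co0 v ⊓ stabilizer Co0 x) = 3265920 := by
  set S : Subgroup Co0 := stabilizer Co0 u ⊓ stabilizer Co0 v with hS
  have hSmem : ∀ g : Co0, g ∈ S ↔ (g • u = u ∧ g • v = v ∧ g • (0 : leechLattice) = 0) := by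
    intro g
    rw [hS, Subgroup.mem_inf, mem_stabilizer_iff, mem_stabilizer_iff]
    simp only [co0_smul_zero, and_true]
  have horb : orbit ↥S x = dotSet 32 u v 0 (24, 16, 0) :=
    orbit_eq_dotSet S hSmem
      (fun y hy y' hy' => by
        obtain ⟨g, g1, g2, g3⟩ := McL.trans_R u v hu hv hy hy'
        exact ⟨g, g1, g2, co0_smul_zero g, g3⟩) hx
  have h1 := card_eq_orbit_mul S x
  rw [horb, McL.card_R u v hu hv, (Grp.mcl_simpCard u v hu hv).2] at h1
  omega

theorem U0_norm : sqNorm (U0 : GolayPt → ℤ) = 48 := by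
  show sqNorm (toV U43.anc0) = 48
  rw [sqNorm_toV _ U43.anc0_in.1]; decide

theorem V0_mem : V0 ∈ dotSet 32 U0 0 0 (24, 0, 0) := by
  rw [mem_dotSet_zero23]
  constructor
  · show sqNorm (toV U43.anc1) = 32
    rw [sqNorm_toV _ U43.anc1_in.1]; decide
  · show dotInt (toV U43.anc0) (toV U43.anc1) = 24
    rw [dotInt_toV _ _ U43.anc0_in.1 U43.anc1_in.1]; decide

theorem X0_mem : X0 ∈ dotSet 32 U0 V0 0 (24, 16, 0) := by
  rw [mem_dotSet_zero3]
  refine ⟨?_, ?_, ?_⟩
  · show sqNorm (toV U43.anc2) = 32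
    rw [sqNorm_toV _ U43.anc2_in.1]; decide
  · show dotInt (toV U43.anc0) (toV U43.anc2) = 24
    rw [dotInt_toV _ _ U43.anc0_in.1 U43.anc2_in.1]; decide
  · show dotInt (toV U43.anc1) (toV U43.anc2) = 16
    rw [dotInt_toV _ _ U43.anc1_in.1 U43.anc2_in.1]; decide

/-- the isomorphism for the base triple -/
theorem iso_base : Nonempty (PresentedGroup U43PS.Rset ≃*
    ↥(stabilizer Co0 U0 ⊓ stabilizer Co0 V0 ⊓ stabilizer Co0 X0)) := by
  haveI : IsSimpleGroup (PresentedGroup U43PS.Rset) := U43PS.main.1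
  haveI : Finite (PresentedGroup U43PS.Rset) := U43PS.card_top.1
  obtain ⟨φ, hφ⟩ := exists_hom_co0S D Dinv hok hinv U43PS.Rset U43PK126.dec U43PK126.bases
    U43PK126.hR1 hchk
  set S : Subgroup Co0 := stabilizer Co0 U0 ⊓ stabilizer Co0 V0 ⊓ stabilizer Co0 X0 with hS
  have hmem : ∀ y, φ y ∈ S := by
    have hle : Subgroup.closure (Set.range (PresentedGroup.of (rels := U43PS.Rset))) ≤ S.comap φ := by
      rw [Subgroup.closure_le]
      rintro _ ⟨x, rfl⟩
      show φ (PresentedGroup.of x) ∈ S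
      rw [hφ, hS, Subgroup.mem_inf, Subgroup.mem_inf, mem_stabilizer_iff, mem_stabilizer_iff,
        mem_stabilizer_iff]
      exact ⟨⟨coS_fix x _ (by simp [U43.anchors]) U43.anc0_in,
        coS_fix x _ (by simp [U43.anchors]) U43.anc1_in⟩,
        coS_fix x _ (by simp [U43.anchors]) U43.anc2_in⟩
    rw [PresentedGroup.closure_range_of] at hle
    intro y
    exact hle (Subgroup.mem_top y)
  let φ' : PresentedGroup U43PS.Rset →* ↥S := φ.codRestrict S hmem
  have hne : φ' (PresentedGroup.of .a) ≠ 1 := by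
    intro h
    have h2 := congrArg Subtype.val h
    have h3 : φ (PresentedGroup.of .a) = 1 := h2
    rw [hφ] at h3
    exact coS_a_ne_one h3
  have hinj : Function.Injective φ' := by
    rw [← MonoidHom.ker_eq_bot_iff]
    rcases IsSimpleGroup.eq_bot_or_eq_top_of_normal φ'.ker inferInstance with h | h
    · exact h
    · exfalso
      apply hne
      have : PresentedGroup.of .a ∈ φ'.ker := by rw [h]; trivial
      exact this
  have hcard : Nat.card ↥S = 3265920 := card_stab U0 V0 X0 U0_norm V0_mem X0_mem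
  haveI : Finite ↥S := Nat.finite_of_card_ne_zero (by rw [hcard]; norm_num)
  have hbij : Function.Bijective φ' := by
    rw [Nat.bijective_iff_injective_and_card]
    exact ⟨hinj, U43PS.main.2.trans hcard.symm⟩
  exact ⟨MulEquiv.ofBijective φ' hbij⟩

theorem main (u v x : leechLattice) (hu : sqNorm (u : GolayPt → ℤ) = 48)
    (hv : v ∈ dotSet 32 u 0 0 (24, 0, 0)) (hx : x ∈ dotSet 32 u v 0 (24, 16, 0))
    (F : Type) [Field F] [Fintype F] (hF : Fintype.card F = 9) :
    Nonempty (↥(stabilizer ↥Co0 u ⊓ stabilizer ↥Co0 v ⊓ stabilizer ↥Co0 x) ≃* Cfsg.PSU 4 F 3) := by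
  obtain ⟨h, hb⟩ := U43.exists_based u v x hu hv hx
  have e1 := conjStab3 h u v x
  have h1 : h • u = U0 := Subtype.ext hb.1
  have h2 : h • v = V0 := Subtype.ext hb.2.1
  have h3 : h • x = X0 := Subtype.ext hb.2.2
  rw [h1, h2, h3] at e1
  obtain ⟨e2⟩ := iso_base
  obtain ⟨e3⟩ := U43Iso.iso_su_field hF
  exact ⟨(e1.trans e2.symm).trans e3⟩

end Cfsg.Agent.Helper4.CO.U43x
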