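import Cfsg.Agent.Lib.Helper4.TC.MatCo0W
import Cfsg.Agent.Lib.Helper4.TC.U43PK126Glue
import Cfsg.Agent.Lib.Helper4.Orb.U43.Cfg

set_option autoImplicit false
set_option linter.unusedVariables false
set_option linter.style.haveILetI false
set_option Elab.async false

/-! Three automorphisms of the rank-24 lattice fixing the three base vectors of the McLaughlin
configuration and satisfying the relations of the presentation `Pres.U43` (generated data). -/

namespace Cfsg.Agent.Helper4.CO.U43x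

open Cfsg Cfsg.Agent.Helper4.CO Cfsg.Agent.Helper4.TC

/-- the generators of the presentation -/
abbrev UG : Type := Cfsg.Agent.Helper4.Pres.U43.Gen

/-- the sparse form of the sextet automorphism -/
def xiSp : List (List (ℕ × ℤ)) :=
  [[(0, -1), (1, 1), (2, 1), (3, 1)],
  [(0, 1), (1, -1), (2, 1), (3, 1)],
  [(0, 1), (1, 1), (2, -1), (3, 1)],
  [(0, 1), (1, 1), (2, 1), (3, -1)],
  [(4, 1), (7, -1), (10, -1), (12, -1)],
  [(5, 1), (14, -1), (17, -1), (23, -1)],
  [(6, 1), (9, -1), (11, -1), (22, -1)],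
  [(4, -1), (7, 1), (10, -1), (12, -1)],
  [(8, 1), (15, -1), (16, -1), (19, -1)],
  [(6, -1), (9, 1), (11, -1), (22, -1)],
  [(4, -1), (7, -1), (10, 1), (12, -1)],
  [(6, -1), (9, -1), (11, 1), (22, -1)],
  [(4, -1), (7, -1), (10, -1), (12, 1)],
  [(13, 1), (18, -1), (20, -1), (21, -1)],
  [(5, -1), (14, 1), (17, -1), (23, -1)],
  [(8, -1), (15, 1), (16, -1), (19, -1)],
  [(8, -1), (15, -1), (16, 1), (19, -1)],
  [(5, -1), (14, -1), (17, 1), (23, -1)],
  [(13, -1), (18, 1), (20, -1), (21, -1)],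
  [(8, -1), (15, -1), (16, -1), (19, 1)],
  [(13, -1), (18, -1), (20, 1), (21, -1)],
  [(13, -1), (18, -1), (20, -1), (21, 1)],
  [(6, -1), (9, -1), (11, -1), (22, 1)],
  [(5, -1), (14, -1), (17, -1), (23, 1)]]

/-- step -/
def stXi : Step := .sp xiMat xiSp

theorem stXi_ok : stXi.OK := ⟨by decide +kernel, xiMat_good⟩

/-- step -/
def stA : Step := .mono [0, 1, 2, 14, 21, 23, 18, 9, 13, 7, 16, 15, 12, 8, 3, 11, 10, 17, 6, 19, 20, 4, 22, 5] [1, 1, 1, 1, 1, 1, 1, 1, 1, 1, 1, 1, 1, 1, 1, 1, 1, 1, 1, 1, 1, 1, 1, 1]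

set_option maxRecDepth 1000000 in
theorem stA_ok : stA.OK := by decide +kernel

/-- step -/
def stC : Step := .mono [0, 1, 2, 20, 19, 13, 16, 17, 15, 11, 12, 7, 22, 4, 3, 23, 9, 21, 14, 10, 8, 6, 5, 18] [1, 1, 1, 1, 1, 1, 1, 1, 1, 1, 1, 1, 1, 1, 1, 1, 1, 1, 1, 1, 1, 1, 1, 1]

set_option maxRecDepth 1000000 in
theorem stC_ok : stC.OK := by decide +kernel

/-- step -/
def stCi : Step := .mono [0, 1, 2, 14, 13, 22, 21, 11, 20, 16, 19, 9, 10, 5, 18, 8, 6, 7, 23, 4, 3, 17, 12, 15] [1, 1, 1, 1, 1, 1, 1, 1, 1, 1, 1, 1, 1, 1, 1, 1, 1, 1, 1, 1, 1, 1, 1, 1]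

set_option maxRecDepth 1000000 in
theorem stCi_ok : stCi.OK := by decide +kernel

/-- step -/
def stNb : Step := .mono [23, 1, 2, 3, 10, 8, 13, 16, 18, 19, 11, 9, 21, 14, 7, 15, 6, 20, 17, 4, 5, 0, 12, 22] [1, 1, 1, 1, 1, 1, 1, 1, 1, 1, 1, 1, 1, 1, 1, 1, 1, 1, 1, 1, 1, 1, 1, 1]

set_option maxRecDepth 1000000 in
theorem stNb_ok : stNb.OK := by decide +kernel

/-- step -/
def stNbi : Step := .mono [21, 1, 2, 3, 19, 20, 16, 14, 5, 11, 4, 10, 22, 6, 13, 15, 7, 18, 8, 9, 17, 12, 23, 0] [1, 1, 1, 1, 1, 1, 1, 1, 1, 1, 1, 1, 1, 1, 1, 1, 1, 1, 1, 1, 1, 1, 1, 1]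

set_option maxRecDepth 1000000 in
theorem stNbi_ok : stNbi.OK := by decide +kernel

/-- the generators as products of steps -/
def D : UG → List Step
  | .a => [stA]
  | .b => [stXi, stNb, stXi]
  | .c => [stC]

/-- the inverses of the generators as products of steps -/
def Dinv : UG → List Step
  | .a => [stA]
  | .b => [stXi, stNbi, stXi]
  | .c => [stCi]

theorem hok : ∀ x, (∀ st ∈ D x, st.OK) ∧ ∀ st ∈ Dinv x, st.OK := by
  intro x
  cases x
  · refine ⟨?_, ?_⟩ <;> intro st hst <;> simp only [D, Dinv, List.mem_cons, List.not_mem_nil, or_false] at hst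
    · rw [hst]; exact stA_ok
    · rw [hst]; exact stA_ok
  · refine ⟨?_, ?_⟩ <;> intro st hst <;> simp only [D, Dinv, List.mem_cons, List.not_mem_nil, or_false] at hst
    · rcases hst with rfl | rfl | rfl
      · exact stXi_ok
      · exact stNb_ok
      · exact stXi_ok
    · rcases hst with rfl | rfl | rfl
      · exact stXi_ok
      · exact stNbi_ok
      · exact stXi_ok
  · refine ⟨?_, ?_⟩ <;> intro st hst <;> simp only [D, Dinv, List.mem_cons, List.not_mem_nil, or_false] at hst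
    · rw [hst]; exact stC_ok
    · rw [hst]; exact stCi_ok

/-- all the generators -/
def allGen : List UG := [.a, .b, .c]

theorem mem_allGen (x : UG) : x ∈ allGen := by cases x <;> decide

set_option maxRecDepth 1000000 in
theorem hinv' : ∀ x ∈ allGen, ∀ l ∈ basisL, stepsAct (D x) (stepsAct (Dinv x) l) = l := by
  decide +kernel

theorem hinv : ∀ x, ∀ l ∈ basisL, stepsAct (D x) (stepsAct (Dinv x) l) = l :=
  fun x => hinv' x (mem_allGen x)

set_option maxRecDepth 1000000 in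
theorem hfix' : ∀ x ∈ allGen, ∀ a ∈ U43.anchors, stepsAct (D x) a = a := by decide +kernel

theorem hfix (x : UG) : ∀ a ∈ U43.anchors, stepsAct (D x) a = a := hfix' x (mem_allGen x)

set_option maxRecDepth 1000000 in
theorem hchk : ∀ b ∈ U43PK126.bases, ∀ l ∈ basisL, runS D Dinv (b.map U43PK126.dec) l = l := by
  decide +kernel

set_option maxRecDepth 1000000 in
theorem hmove : ∃ l ∈ basisL, stepsAct (D .a) l ≠ l := by decide +kernel

end Cfsg.Agent.Helper4.CO.U43x
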